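import Mathlib

/-!
# The cone cut out by the second and fourth elementary symmetric polynomials in five variables

Write `t` for the first variable and `eᵢ` for the symmetric polynomials in the other four, so that the
two equations are `e₁ t + e₂` and `e₃ t + e₄`. Off `e₁ = 0` the scheme is the graph of `-e₂/e₁` over
the irreducible hypersurface `e₁ e₄ = e₂ e₃`, and `e₁ = 0` cuts out too small a set to contain a
component.
-/

noncomputable section

open MvPolynomial

namespace Groth.Agent.CubicX

universe u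

variable (k : Type u) [Field k]

/-- The first symmetric polynomial in four variables. -/
def e1 : MvPolynomial (Fin 4) k := X 0 + X 1 + X 2 + X 3
/-- The second symmetric polynomial in four variables. -/
def e2 : MvPolynomial (Fin 4) k :=
  X 0 * X 1 + X 0 * X 2 + X 0 * X 3 + X 1 * X 2 + X 1 * X 3 + X 2 * X 3
/-- The third symmetric polynomial in four variables. -/
def e3 : MvPolynomial (Fin 4) k :=
  X 0 * X 1 * X 2 + X 0 * X 1 * X 3 + X 0 * X 2 * X 3 + X 1 * X 2 * X 3
/-- The fourth symmetric polynomial in four variables. -/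
def e4 : MvPolynomial (Fin 4) k := X 0 * X 1 * X 2 * X 3
/-- The eliminant. -/
def F : MvPolynomial (Fin 4) k := e1 k * e4 k - e2 k * e3 k

theorem not_dvd_of_eval {σ : Type*} {f g : MvPolynomial σ k} (v : σ → k) (hf : eval v f = 0)
    (hg : eval v g ≠ 0) : ¬ f ∣ g := by
  rintro ⟨h, rfl⟩
  simp [hf] at hg

theorem esymm_two : esymm (Fin 5) k 2 =
    X 0 * (X 1 + X 2 + X 3 + X 4) + (X 1 * X 2 + X 1 * X 3 + X 1 * X 4 + X 2 * X 3 + X 2 * X 4
      + X 3 * X 4) := by
  rw [esymm_eq_multiset_esymm,
    show (Finset.univ : Finset (Fin 5)).val.map (fun i => (X i : MvPolynomial (Fin 5) k)) =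
      (([X 0, X 1, X 2, X 3, X 4] : List (MvPolynomial (Fin 5) k)) : Multiset _) from rfl]
  simp [Multiset.esymm, Multiset.powersetCard_coe, List.sublistsLen, List.sublistsLenAux]
  ring

theorem esymm_four : esymm (Fin 5) k 4 =
    X 0 * (X 1 * X 2 * X 3 + X 1 * X 2 * X 4 + X 1 * X 3 * X 4 + X 2 * X 3 * X 4)
      + X 1 * X 2 * X 3 * X 4 := by
  rw [esymm_eq_multiset_esymm,
    show (Finset.univ : Finset (Fin 5)).val.map (fun i => (X i : MvPolynomial (Fin 5) k)) =
      (([X 0, X 1, X 2, X 3, X 4] : List (MvPolynomial (Fin 5) k)) : Multiset _) from rfl]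
  simp [Multiset.esymm, Multiset.powersetCard_coe, List.sublistsLen, List.sublistsLenAux]
  ring

theorem irreducible_quadric3 :
    Irreducible (X 0 * X 1 + X 0 * X 2 + X 1 * X 2 : MvPolynomial (Fin 3) k) := by
  rw [← MulEquiv.irreducible_iff (finSuccEquiv k 2)]
  have : finSuccEquiv k 2 (X 0 * X 1 + X 0 * X 2 + X 1 * X 2) =
      Polynomial.C (X 0 + X 1) * Polynomial.X + Polynomial.C (X 0 * X 1) := by
    rw [show (1 : Fin 3) = Fin.succ 0 from rfl, show (2 : Fin 3) = Fin.succ 1 from rfl]
    simp only [map_add, map_mul, finSuccEquiv_X_zero, finSuccEquiv_X_succ]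
    ring
  rw [this]
  refine Polynomial.irreducible_C_mul_X_add_C ?_ (IsRelPrime.mul_right ?_ ?_)
  · intro h
    simpa using congrArg (eval ![(1 : k), 0]) h
  · exact ((X_prime (i := (0 : Fin 2))).irreducible.isRelPrime_iff_not_dvd.mpr
      (not_dvd_of_eval k ![0, 1] (by simp) (by simp))).symm
  · exact ((X_prime (i := (1 : Fin 2))).irreducible.isRelPrime_iff_not_dvd.mpr
      (not_dvd_of_eval k ![1, 0] (by simp) (by simp))).symm

variable [CharZero k]

theorem irreducible_F : Irreducible (F k) := by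
  rw [← MulEquiv.irreducible_iff (finSuccEquiv k 3)]
  let a1 : MvPolynomial (Fin 3) k := X 0 + X 1 + X 2
  let a2 : MvPolynomial (Fin 3) k := X 0 * X 1 + X 0 * X 2 + X 1 * X 2
  let a3 : MvPolynomial (Fin 3) k := X 0 * X 1 * X 2
  have hF : finSuccEquiv k 3 (F k) = Polynomial.C (a3 - a1 * a2) * Polynomial.X ^ 2
      + Polynomial.C (-(a2 * a2)) * Polynomial.X + Polynomial.C (-(a2 * a3)) := by
    simp only [F, e1, e2, e3, e4]
    rw [show (1 : Fin 4) = Fin.succ 0 from rfl, show (2 : Fin 4) = Fin.succ 1 from rfl,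
      show (3 : Fin 4) = Fin.succ 2 from rfl]
    simp only [map_add, map_sub, map_mul, map_neg, finSuccEquiv_X_zero, finSuccEquiv_X_succ, a1, a2, a3]
    ring
  rw [hF]
  have hp : Prime a2 := (irreducible_quadric3 k).prime
  have hP : (Ideal.span {a2}).IsPrime := (Ideal.span_singleton_prime hp.ne_zero).mpr hp
  have hv : eval ![(1 : k), 1, -(2 : k)⁻¹] a2 = 0 := by
    simp [a2]
    field_simp
    ring
  have hlead : ¬ a2 ∣ a3 - a1 * a2 := not_dvd_of_eval k _ hv (by
    have ha : eval ![(1 : k), 1, -(2 : k)⁻¹] (a1 * a2) = 0 := by rw [map_mul, hv, mul_zero]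
    rw [map_sub, ha]; simp [a3])
  have hlead0 : a3 - a1 * a2 ≠ 0 := fun h => hlead (h ▸ dvd_zero a2)
  have h3 : ¬ a2 ∣ a3 := not_dvd_of_eval k _ hv (by simp [a3])
  have hc : ∀ i : ℕ, (Polynomial.C (a3 - a1 * a2) * Polynomial.X ^ 2
      + Polynomial.C (-(a2 * a2)) * Polynomial.X + Polynomial.C (-(a2 * a3))).coeff i =
      (a3 - a1 * a2) * (if i = 2 then 1 else 0) + -(a2 * a2) * (if 1 = i then 1 else 0)
        + (if i = 0 then -(a2 * a3) else 0) := fun i => by
    simp only [Polynomial.coeff_add, Polynomial.coeff_C_mul, Polynomial.coeff_X_pow,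
      Polynomial.coeff_X, Polynomial.coeff_C]
  refine Polynomial.irreducible_of_eisenstein_criterion hP ?_ ?_ ?_ ?_ ?_
  · rw [Polynomial.leadingCoeff_quadratic hlead0, Ideal.mem_span_singleton]; exact hlead
  · intro i hi
    rw [Polynomial.degree_quadratic hlead0] at hi
    have : i < 2 := by exact_mod_cast hi
    rw [hc, Ideal.mem_span_singleton]
    interval_cases i
    · simpa using (dvd_mul_right a2 a3).neg_right
    · simpa using (dvd_mul_right a2 a2).neg_right
  · rw [Polynomial.degree_quadratic hlead0]; norm_num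
  · rw [hc, Ideal.span_singleton_pow, Ideal.mem_span_singleton]
    simp [pow_two, mul_dvd_mul_iff_left hp.ne_zero, h3]
  · intro r hr
    rw [Polynomial.C_dvd_iff_dvd_coeff] at hr
    have c1 : r ∣ a2 * a2 := by
      have := hr 1
      rw [hc] at this
      simpa using this
    have c2 : r ∣ a3 - a1 * a2 := by
      have := hr 2
      rw [hc] at this
      simpa using this
    by_contra hu
    have hr0 : r ≠ 0 := fun h => hlead0 (zero_dvd_iff.mp (h ▸ c2))
    obtain ⟨π, hπ, hπr⟩ := WfDvdMonoid.exists_irreducible_factor hu hr0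
    have h' : π ∣ a2 := by
      rcases hπ.prime.dvd_or_dvd (hπr.trans c1) with h | h <;> exact h
    exact hlead ((hπ.associated_of_dvd hp.irreducible h').symm.dvd.trans (hπr.trans c2))

/-- The ideal of the cone, with the first variable split off. -/
def coneIdeal : Ideal (Polynomial (MvPolynomial (Fin 4) k)) :=
  Ideal.span {Polynomial.C (e1 k) * Polynomial.X + Polynomial.C (e2 k),
    Polynomial.C (e3 k) * Polynomial.X + Polynomial.C (e4 k)}

theorem irreducible_e1 : Irreducible (e1 k) := by
  rw [← MulEquiv.irreducible_iff (finSuccEquiv k 3)]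
  have : finSuccEquiv k 3 (e1 k) = Polynomial.X - Polynomial.C (-(X 0 + X 1 + X 2)) := by
    rw [e1, show (1 : Fin 4) = Fin.succ 0 from rfl, show (2 : Fin 4) = Fin.succ 1 from rfl,
      show (3 : Fin 4) = Fin.succ 2 from rfl]
    simp only [map_add, map_neg, finSuccEquiv_X_zero, finSuccEquiv_X_succ]
    ring
  rw [this]
  exact Polynomial.irreducible_X_sub_C _

/-- `e1` lies in no minimal prime of the cone. -/
theorem e1_notMem (Q : Ideal (Polynomial (MvPolynomial (Fin 4) k)))
    (hQ : Q ∈ (coneIdeal k).minimalPrimes) : Polynomial.C (e1 k) ∉ Q := by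
  intro h1
  have hQp : Q.IsPrime := hQ.1.1
  have hle : Q.height ≤ 2 := by
    refine (Ideal.height_le_card_of_mem_minimalPrimes_span (Set.toFinite _) hQ).trans ?_
    exact_mod_cast (Set.ncard_insert_le _ _).trans (by simp)
  have hσ : Polynomial.C (e1 k) * Polynomial.X + Polynomial.C (e2 k) ∈ Q ∧
      Polynomial.C (e3 k) * Polynomial.X + Polynomial.C (e4 k) ∈ Q :=
    ⟨hQ.1.2 (Ideal.subset_span (by simp)), hQ.1.2 (Ideal.subset_span (by simp))⟩
  have h2 : Polynomial.C (e2 k) ∈ Q := by
    have := sub_mem hσ.1 (Q.mul_mem_right Polynomial.X h1)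
    rwa [add_sub_cancel_left] at this
  let p : Ideal (MvPolynomial (Fin 4) k) := Q.comap Polynomial.C
  have hpp : p.IsPrime := Ideal.comap_isPrime _ _
  have h1' : (Ideal.span {e1 k}).IsPrime :=
    (Ideal.span_singleton_prime (irreducible_e1 k).ne_zero).mpr (irreducible_e1 k).prime
  have step : ∀ {A : Type u} [CommRing A] (I J : Ideal A) [I.IsPrime] [J.IsPrime] (a : ℕ),
      I < J → (J.height < ⊤) → (a : ℕ∞) ≤ I.height → ((a + 1 : ℕ) : ℕ∞) ≤ J.height := by
    intro A _ I J _ _ a hIJ hJ ha
    have : J.FiniteHeight := J.finiteHeight_iff.mpr (Or.inr hJ.ne)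
    exact_mod_cast (ENat.add_one_le_iff (ENat.coe_ne_top a)).mpr
      (ha.trans_lt (Ideal.height_strict_mono_of_isPrime_of_isPrime hIJ))
  have fin5 : ∀ (J : Ideal (Polynomial (MvPolynomial (Fin 4) k))) [J.IsPrime], J.height < ⊤ :=
    fun J _ => J.height_lt_top Ideal.IsPrime.ne_top'
  by_cases hext : Q = p.map Polynomial.C
  · -- then all four variables lie in `p`
    have hc := Ideal.mem_map_C_iff.mp (hext ▸ hσ.2)
    have h3 : e3 k ∈ p := by simpa using hc 1
    have h4 : e4 k ∈ p := by simpa using hc 0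
    have hX : ∀ i, (X i : MvPolynomial (Fin 4) k) ∈ p := fun i => by
      refine hpp.mem_of_pow_mem 4 ?_
      rw [show (X i : MvPolynomial (Fin 4) k) ^ 4 =
          X i ^ 3 * e1 k - X i ^ 2 * e2 k + X i * e3 k - e4 k by
        fin_cases i <;> simp [e1, e2, e3, e4] <;> ring]
      exact sub_mem (add_mem (sub_mem (p.mul_mem_left _ h1) (p.mul_mem_left _ h2))
        (p.mul_mem_left _ h3)) h4
    let s : ℕ → Fin 4 → MvPolynomial (Fin 4) k := fun j i => if (i : ℕ) < j then 0 else X i
    let K : ℕ → Ideal (Polynomial (MvPolynomial (Fin 4) k)) := fun j =>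
      (RingHom.ker (aeval (s j) : MvPolynomial (Fin 4) k →ₐ[k] _).toRingHom).map Polynomial.C
    have hK : ∀ j, (K j).IsPrime := fun j => by
      have : (RingHom.ker (aeval (s j) : MvPolynomial (Fin 4) k →ₐ[k] _).toRingHom).IsPrime :=
        RingHom.ker_isPrime _
      exact Ideal.isPrime_map_C_of_isPrime
    have hKQ : ∀ j, K j ≤ Q := fun j => by
      rw [hext]
      refine Ideal.map_mono fun f hf => ?_
      have hcomp : (Ideal.Quotient.mkₐ k p).comp (aeval (s j)) = Ideal.Quotient.mkₐ k p :=
        MvPolynomial.algHom_ext fun i => by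
          simp only [AlgHom.comp_apply, aeval_X, s]
          split_ifs
          · rw [map_zero]; exact (Ideal.Quotient.eq_zero_iff_mem.mpr (hX i)).symm
          · rfl
      refine Ideal.Quotient.eq_zero_iff_mem.mp ?_
      change Ideal.Quotient.mkₐ k p f = 0
      rw [← hcomp, AlgHom.comp_apply, show aeval (s j) f = 0 from hf, map_zero]
    have hlt : ∀ j < 3, K j < K (j + 1) := fun j hj => by
      refine lt_of_le_of_ne (Ideal.map_mono fun f hf => ?_) fun he => ?_
      · have hcomp : (aeval (s (j + 1))).comp (aeval (s j)) = (aeval (s (j + 1)) :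
            MvPolynomial (Fin 4) k →ₐ[k] _) :=
          MvPolynomial.algHom_ext fun i => by
            simp only [AlgHom.comp_apply, aeval_X, s]
            by_cases hi : (i : ℕ) < j
            · simp [hi, show (i : ℕ) < j + 1 by omega]
            · simp [hi, s]
        change aeval (s (j + 1)) f = 0
        rw [← hcomp, AlgHom.comp_apply, show aeval (s j) f = 0 from hf, map_zero]
      · have hm : (Polynomial.C (X (⟨j, by omega⟩ : Fin 4))) ∈ K (j + 1) :=
          Ideal.mem_map_of_mem _ (show aeval (s (j + 1)) (X (⟨j, by omega⟩ : Fin 4)) = 0 by simp [s])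
        rw [← he] at hm
        have := Ideal.mem_map_C_iff.mp hm 0
        simp [s] at this
    have b0 : ((0 : ℕ) : ℕ∞) ≤ (K 0).height := by simp
    have b1 := step (K 0) (K 1) 0 (hlt 0 (by norm_num)) (fin5 _) b0
    have b2 := step (K 1) (K 2) 1 (hlt 1 (by norm_num)) (fin5 _) b1
    have b3 := step (K 2) (K 3) 2 (hlt 2 (by norm_num)) (fin5 _) b2
    have := b3.trans ((Ideal.height_mono (hKQ 3)).trans hle)
    norm_num at this
  · have hne : (e1 k) ≠ 0 := (irreducible_e1 k).ne_zero
    let L₁ := (Ideal.span {e1 k}).map (Polynomial.C (R := MvPolynomial (Fin 4) k))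
    let L₂ := p.map (Polynomial.C (R := MvPolynomial (Fin 4) k))
    have : L₁.IsPrime := Ideal.isPrime_map_C_of_isPrime
    have : L₂.IsPrime := Ideal.isPrime_map_C_of_isPrime
    have l0 : (⊥ : Ideal (Polynomial (MvPolynomial (Fin 4) k))) < L₁ := bot_lt_iff_ne_bot.mpr fun h =>
      hne (Polynomial.C_eq_zero.mp ((Submodule.eq_bot_iff _).mp h _
        (Ideal.mem_map_of_mem _ (Ideal.mem_span_singleton_self _))))
    have l1 : L₁ < L₂ := by
      refine lt_of_le_of_ne (Ideal.map_mono (by
        rw [Ideal.span_le, Set.singleton_subset_iff]; exact h1)) fun he => ?_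
      have hm : Polynomial.C (e2 k) ∈ L₁ := he ▸ Ideal.mem_map_of_mem _ (show e2 k ∈ p from h2)
      have := Ideal.mem_map_C_iff.mp hm 0
      rw [Polynomial.coeff_C_zero, Ideal.mem_span_singleton] at this
      exact not_dvd_of_eval k ![1, -1, 0, 0] (by simp [e1]) (by simp [e2]) this
    have l2 : L₂ < Q := lt_of_le_of_ne Ideal.map_comap_le (Ne.symm hext)
    have b0 : ((0 : ℕ) : ℕ∞) ≤ (⊥ : Ideal (Polynomial (MvPolynomial (Fin 4) k))).height := by simp
    have b1 := step _ _ 0 l0 (fin5 _) b0
    have b2 := step _ _ 1 l1 (fin5 _) b1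
    have b3 := step _ _ 2 l2 (fin5 _) b2
    have := b3.trans hle
    norm_num at this

theorem radical_coneIdeal_isPrime : (coneIdeal k).radical.IsPrime := by
  classical
  have hFp : (Ideal.span {F k}).IsPrime :=
    (Ideal.span_singleton_prime (irreducible_F k).ne_zero).mpr (irreducible_F k).prime
  let B := MvPolynomial (Fin 4) k ⧸ Ideal.span {F k}
  let K := FractionRing B
  let φ : MvPolynomial (Fin 4) k →+* K := (algebraMap B K).comp (Ideal.Quotient.mk _)
  have hφ : ∀ g, φ g = 0 ↔ g ∈ Ideal.span {F k} := fun g => by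
    simp only [φ, RingHom.comp_apply]
    rw [map_eq_zero_iff _ (IsFractionRing.injective B K), Ideal.Quotient.eq_zero_iff_mem]
  have he1 : φ (e1 k) ≠ 0 := fun h => by
    rw [hφ, Ideal.mem_span_singleton] at h
    exact not_dvd_of_eval k ![1, 0, 0, 0] (by simp [F, e1, e2, e3, e4]) (by simp [e1]) h
  let Φ := Polynomial.eval₂RingHom φ (-φ (e2 k) / φ (e1 k))
  have hP : (RingHom.ker Φ).IsPrime := RingHom.ker_isPrime _
  suffices (coneIdeal k).radical = RingHom.ker Φ by rw [this]; exact hP
  refine le_antisymm (hP.radical_le_iff.mpr (Ideal.span_le.mpr ?_)) ?_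
  · rintro f (rfl | rfl) <;>
      simp only [SetLike.mem_coe, RingHom.mem_ker, Φ, Polynomial.coe_eval₂RingHom,
        Polynomial.eval₂_add, Polynomial.eval₂_mul, Polynomial.eval₂_C, Polynomial.eval₂_X]
    · rw [mul_div_cancel₀ _ he1, neg_add_cancel]
    · have := (hφ (F k)).mpr (Ideal.mem_span_singleton_self _)
      simp only [F, map_sub, map_mul] at this
      rw [mul_div_assoc', div_add' _ _ _ he1, div_eq_zero_iff]
      left
      linear_combination this
  · rw [← Ideal.sInf_minimalPrimes]
    refine le_sInf fun Q hQ f hf => ?_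
    have hQp : Q.IsPrime := hQ.1.1
    have h1 := e1_notMem k Q hQ
    have hσ : Polynomial.C (e1 k) * Polynomial.X + Polynomial.C (e2 k) ∈ Q ∧
        Polynomial.C (e3 k) * Polynomial.X + Polynomial.C (e4 k) ∈ Q :=
      ⟨hQ.1.2 (Ideal.subset_span (by simp)), hQ.1.2 (Ideal.subset_span (by simp))⟩
    have hFQ : Polynomial.C (F k) ∈ Q := by
      have := sub_mem (Q.mul_mem_left (Polynomial.C (e1 k)) hσ.2)
        (Q.mul_mem_left (Polynomial.C (e3 k)) hσ.1)
      simp only [F, map_sub, map_mul]
      convert this using 1; ring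
    obtain ⟨N, g, hg⟩ : ∃ N g, Polynomial.C (e1 k) ^ N * f - Polynomial.C g ∈
        Q ⊓ RingHom.ker Φ := by
      have hs : Polynomial.C (e1 k) * Polynomial.X + Polynomial.C (e2 k) ∈ Q ⊓ RingHom.ker Φ := by
        refine ⟨hσ.1, ?_⟩
        simp [Φ, mul_div_cancel₀ _ he1]
        exact neg_add_cancel _
      clear hf
      induction f using Polynomial.induction_on' with
      | add f f' hf hf' =>
        obtain ⟨N, g, hg⟩ := hf
        obtain ⟨N', g', hg'⟩ := hf'
        refine ⟨N + N', e1 k ^ N' * g + e1 k ^ N * g', ?_⟩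
        have := add_mem (Ideal.mul_mem_left _ (Polynomial.C (e1 k) ^ N') hg)
          (Ideal.mul_mem_left _ (Polynomial.C (e1 k) ^ N) hg')
        convert this using 1
        simp only [map_add, map_mul, map_pow, pow_add]; ring
      | monomial i c =>
        induction i with
        | zero => exact ⟨0, c, by simp⟩
        | succ i ih =>
          obtain ⟨N, g, hg⟩ := ih
          refine ⟨N + 1, -(e2 k) * g, ?_⟩
          have := add_mem (Ideal.mul_mem_left _ (Polynomial.C (e1 k) * Polynomial.X) hg)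
            (Ideal.mul_mem_left _ (Polynomial.C g) hs)
          convert this using 1
          rw [← Polynomial.C_mul_X_pow_eq_monomial, ← Polynomial.C_mul_X_pow_eq_monomial]
          simp only [map_mul, map_neg, pow_succ]; ring
    have hg0 : g ∈ Ideal.span {F k} := by
      have := RingHom.mem_ker.mp hg.2
      rw [map_sub, map_mul, show Φ f = 0 from hf, mul_zero, zero_sub,
        neg_eq_zero] at this
      rw [← hφ]
      simpa [Φ] using this
    obtain ⟨c, rfl⟩ := Ideal.mem_span_singleton'.mp hg0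
    have hgQ : Polynomial.C (c * F k) ∈ Q := by rw [map_mul]; exact Q.mul_mem_left _ hFQ
    have : Polynomial.C (e1 k) ^ N * f ∈ Q := by
      have := add_mem hg.1 hgQ
      rwa [sub_add_cancel] at this
    exact (hQp.mem_or_mem this).resolve_left fun h => h1 (hQp.mem_of_pow_mem N h)

theorem isPrime_radical :
    (Ideal.span ({esymm (Fin 5) k 2, esymm (Fin 5) k 4} :
      Set (MvPolynomial (Fin 5) k))).radical.IsPrime := by
  have hI : Ideal.span ({esymm (Fin 5) k 2, esymm (Fin 5) k 4} : Set (MvPolynomial (Fin 5) k)) =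
      (coneIdeal k).comap (finSuccEquiv k 4).toRingEquiv.toRingHom := by
    have hmap : (Ideal.span ({esymm (Fin 5) k 2, esymm (Fin 5) k 4} :
        Set (MvPolynomial (Fin 5) k))).map (finSuccEquiv k 4).toRingEquiv.toRingHom = coneIdeal k := by
      rw [Ideal.map_span, Set.image_insert_eq, Set.image_singleton, coneIdeal, esymm_two, esymm_four]
      rw [show (1 : Fin 5) = Fin.succ 0 from rfl, show (2 : Fin 5) = Fin.succ 1 from rfl,
        show (3 : Fin 5) = Fin.succ 2 from rfl, show (4 : Fin 5) = Fin.succ 3 from rfl]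
      have hfun : ∀ x, (finSuccEquiv k 4).toRingEquiv.toRingHom x = finSuccEquiv k 4 x :=
        fun _ => rfl
      simp only [hfun, map_add, map_mul,
        finSuccEquiv_X_zero, finSuccEquiv_X_succ, e1, e2, e3, e4]
      congr 2
      · ring
      · congr 1; ring
    rw [← hmap]
    exact (Ideal.comap_map_of_bijective _ (finSuccEquiv k 4).bijective).symm
  rw [hI, ← Ideal.comap_radical]
  have := radical_coneIdeal_isPrime k
  exact Ideal.comap_isPrime _ _

end Groth.Agent.CubicX
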